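import Mathlib
import Cfsg.Agent.Lib.Comput.Check3
import Cfsg.Agent.Lib.LieModel.Sp62.P.Data

/-! generated by tools/cgt -/

set_option autoImplicit false
set_option maxRecDepth 100000
set_option Elab.async false

namespace CfsgLib.LieModel.Sp62.P

open CfsgLib.Comput

def R5_0 : RepC := ⟨24, 1, [],
  []⟩
def S5_0 : GenC := ⟨24, [],
  [(0, 0, 0, 1, 0), (0, 1, 0, 0, 0)], 0⟩
def L5 : Level := ⟨0x0, 0x800000, [], 1, 31, 0, 2, [R5_0], [S5_0]⟩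
def X5 : Ext := []

def R4_0 : RepC := ⟨21, 1, [(24, 24)],
  [(35, 1, [1])]⟩
def R4_1 : RepC := ⟨22, 1, [(24, 24)],
  [(31, 1, [1])]⟩
def R4_2 : RepC := ⟨0x1615, 1, [(24, 24)],
  [(35, 1, [1])]⟩
def S4_0 : GenC := ⟨21, [(24, 24)],
  [(0, 0, 0, 1, 0), (0, 1, 0, 0, 0), (0, 2, 0, 3, 0), (0, 3, 0, 2, 0)], 0⟩
def S4_1 : GenC := ⟨22, [(24, 24)],
  [(0, 0, 0, 2, 0), (0, 1, 0, 3, 0), (0, 2, 0, 0, 0), (0, 3, 0, 1, 0)], 0⟩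
def L4 : Level := ⟨0x800000, 0xf00000, [24], 2, 15, 0, 4, [R4_0, R4_1, R4_2], [S4_0, S4_1]⟩
def X4 : Ext := [(22, 0, 24)]

def R3_0 : RepC := ⟨16, 1, [(24, 24), (0x1518, 0x1518), (22, 22)],
  [(19, 1, [1, 2, 3]), (35, 1, [1])]⟩
def R3_1 : RepC := ⟨17, 1, [(24, 24), (21, 21), (22, 22)],
  [(19, 1, [1, 2, 3]), (31, 1, [1])]⟩
def R3_2 : RepC := ⟨18, 1, [(24, 24), (22, 22), (0x1615, 0x1615)],
  [(17, 1, [1, 2, 3]), (31, 1, [1])]⟩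
def R3_3 : RepC := ⟨20, 1, [(24, 24), (22, 22), (0x1615, 0x1615)],
  [(17, 1, [1, 2, 3]), (35, 1, [1])]⟩
def R3_4 : RepC := ⟨0x1210, 1, [(24, 24), (22, 22), (0x1518, 0x1518)],
  [(21, 1, [1, 2, 3]), (35, 1, [1])]⟩
def R3_5 : RepC := ⟨0x1211, 1, [(24, 24), (21, 21), (22, 22)],
  [(19, 1, [1, 2, 3]), (35, 1, [1])]⟩
def R3_6 : RepC := ⟨0x1412, 1, [(24, 24), (21, 21), (0x1618, 0x1618)],
  [(19, 1, [1, 2, 3]), (31, 1, [1])]⟩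
def S3_0 : GenC := ⟨16, [(22, 22)],
  [(0, 0, 0, 1, 0), (0, 1, 0, 0, 0), (0, 2, 0, 4, 21), (0, 3, 0, 5, 0), (0, 4, 0, 2, 21), (0, 5, 0, 3, 0), (0, 6, 0, 7, 21), (0, 7, 0, 6, 21)], 0⟩
def S3_1 : GenC := ⟨17, [(0x1518, 0x1518)],
  [(0, 0, 0, 2, 0), (0, 1, 0, 4, 21), (0, 2, 0, 0, 0), (0, 3, 0, 6, 0), (0, 4, 0, 1, 21), (0, 5, 0, 7, 21), (0, 6, 0, 3, 0), (0, 7, 0, 5, 21)], 0⟩
def S3_2 : GenC := ⟨18, [(24, 24)],
  [(0, 0, 0, 3, 0), (0, 1, 0, 5, 0), (0, 2, 0, 6, 0), (0, 3, 0, 0, 0), (0, 4, 0, 7, 0), (0, 5, 0, 1, 0), (0, 6, 0, 2, 0), (0, 7, 0, 4, 0)], 0⟩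
def L3 : Level := ⟨0xf00000, 0xffc000, [21, 22, 24], 8, 7, 0, 8, [R3_0, R3_1, R3_2, R3_3, R3_4, R3_5, R3_6], [S3_0, S3_1, S3_2]⟩
def X3 : Ext := [(14, 0, 0x161518), (18, 0, 0x101518), (19, 0, 0x111015)]

def R2_0 : RepC := ⟨0xa0a, 1, [(24, 0x121518), (21, 0x111618), (0x1615, 0x12111518), (0x1016, 0x12101615), (0x1416, 0x14121615), (0x12111618, 0x12111618)],
  [(14, 1, [1, 2, 3, 4, 5, 6]), (17, 1, [1, 2, 3]), (31, 1, [1])]⟩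
def R2_1 : RepC := ⟨0xd09, 1, [(24, 0x12111518), (22, 0x12111615), (0x1615, 0x121518), (16, 16), (20, 20), (0x1210, 0x1210)],
  [(13, 1, [1, 2, 3, 4, 5, 6]), (21, 1, [1, 2, 3]), (31, 1, [1])]⟩
def R2_2 : RepC := ⟨0xd0a, 1, [(24, 0x1615), (21, 21), (22, 0x1518), (0x111518, 0x1116), (0x1415, 0x1415), (18, 0x1211161518)],
  [(9, 1, [1, 2, 3, 4, 5, 6]), (17, 1, [1, 2, 3]), (31, 1, [1])]⟩
def R2_3 : RepC := ⟨9, 8, [(0x1618, 0x1618), (20, 20), (0x1115, 0x1115)],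
  [(9, 1, [1, 2, 3]), (15, 1, [1])]⟩
def S2_0 : GenC := ⟨10, [(0x1618, 0x1618)],
  [(0, 0, 0x1215, 4, 0x1215), (0, 4, 0, 0, 0), (0x1215, 4, 0, 1, 0x1215), (0x1312, 4, 24, 4, 0x121615), (0x1218, 4, 19, 4, 0x12111615), (19, 4, 0x1218, 4, 0x1518), (18, 4, 0, 2, 22), (0, 1, 0, 4, 0), (21, 4, 0, 3, 22), (0, 2, 21, 4, 0x121118), (0, 3, 18, 4, 0x121118), (24, 4, 0x1312, 4, 22)], 0⟩
def L2 : Level := ⟨0xffc000, 0xffff00, [16, 17, 18, 21, 22, 24], 64, 3, 0, 12, [R2_0, R2_1, R2_2, R2_3], [S2_0]⟩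
def X2 : Ext := [(8, 10, 0), (10, 0, 0x180a12111615), (11, 11, 0), (12, 0, 0x130914161518), (13, 13, 0)]

def R1_0 : RepC := ⟨0x81308, 1, [(0xe14121518, 0xe0a121618), (0x1615, 0x12111518), (21, 0x12101618), (0x911, 0xd12111518)],
  [(14, 3, [1, 2, 3, 4]), (50, 3, [1, 2, 3]), (36, 2, [1, 2]), (3, 1, [1])]⟩
def R1_1 : RepC := ⟨0xe08, 12, [(24, 0x1618), (21, 0xd0a16), (22, 0xb14161518), (0x1118, 0xd121518), (16, 0xb111618), (0x12101618, 0xd0a111518)],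
  [(12, 1, [1, 2, 3, 4, 5, 6]), (21, 1, [1, 2, 3]), (31, 1, [1])]⟩
def R1_2 : RepC := ⟨5, 16, [(24, 0x1615), (0xd141215, 0xb1416), (0xc1116, 0xe0a12101615)],
  [(8, 3, [1, 2, 3]), (3, 2, [1, 2]), (31, 1, [1])]⟩
def S1_0 : GenC := ⟨8, [(0xb15, 0xa0a1115), (0xc15, 0xa141215), (0xd091018, 0xd0a1518)],
  [(0, 0, 13, 2, 0), (0, 3, 15, 3, 0xd0a1211), (10, 3, 0xd0a, 2, 0xe121518), (10, 2, 0, 0, 0xa101615), (0, 2, 22, 3, 0xe0a121618), (0x120a, 2, 11, 2, 0xb12111618), (0, 1, 12, 2, 0xd0a14161518), (9, 2, 0, 1, 0xd12101518), (14, 2, 0xe0a, 2, 0xd09141518)], 1⟩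
def L1 : Level := ⟨0xffff00, 0xfffff0, [10, 16, 17, 18, 21, 22, 24], 768, 1, 0, 30, [R1_0, R1_1, R1_2], [S1_0]⟩
def X1 : Ext := [(6, 8, 0), (4, 0, 0x812080c1416), (5, 5, 0)]

def R0_0 : RepC := ⟨0x80a19, 30, [(0x1615, 0xe14121518), (0x120a1018, 0x1506120a1210161518), (22, 0x120a15), (0xd1518, 0x6070d09101618)],
  [(8, 3, [1, 2, 3, 4]), (47, 3, [1, 2, 3]), (3, 2, [1, 2]), (15, 1, [1])]⟩
def R0_1 : RepC := ⟨3, 32, [(0x18060d0a121115, 0xb1415), (0x1618, 0x121518), (0xd0a1118, 0x12111615), (0x150616, 0x8080d121118)],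
  [(35, 3, [1, 2, 3, 4]), (33, 3, [1, 2, 3]), (51, 2, [1, 2]), (53, 1, [1])]⟩
def S0_0 : GenC := ⟨25, [(0xa080d12, 0x11050d0a121518), (0x15060e1615, 0xc08120a1116)],
  [(0, 0, 0xe08, 1, 0x6070a0a121116), (0, 2, 21, 2, 0x14050d111518), (10, 2, 0x808, 1, 0x12080d0a1412161518), (0x1208, 1, 0, 0, 0x1105091116), (5, 1, 0x130718, 2, 0x12080e14), (0, 1, 0x1405, 1, 0x60d0918), (0x1508, 1, 0xb08, 1, 0x91115)], 3⟩
def L0 : Level := ⟨0xfffff0, 0x3ffffff, [8, 10, 16, 17, 18, 21, 22, 24], 23040, 0, 0, 63, [R0_0, R0_1], [S0_0]⟩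
def X0 : Ext := [(25, 25, 0), (0, 0, 0x80c14121618), (1, 1, 0), (2, 0, 0x191919), (3, 3, 0)]

def top : List ℕ := [1, 3]
def gs : List ℕ := [25, 8, 10, 16, 17, 18, 21, 22, 24]
def XD : Ext := [(1, 1, 0), (3, 3, 0), (4, 0, 0x4040401030302040104), (5, 5, 0), (6, 0, 0x401040401030303030203), (7, 7, 0), (8, 0, 0x6080505050705), (9, 9, 0), (10, 0, 0x6070706060806), (11, 11, 0), (12, 0, 0x7070606070606), (13, 13, 0), (14, 0, 0x90e090e), (15, 0, 0x90c0e), (16, 0, 0xa0b0b09), (17, 0, 0xe0b0d09), (18, 0, 0xa0a0e090d), (19, 0, 0x90d0d0d0a), (20, 0, 0x141011), (21, 0, 0x10130f), (22, 0, 0x111314), (23, 0, 0x1516171615), (24, 0, 0x404), (25, 25, 0)]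
def MX : Level.MaxC := [[(0xe08, [0x6070a0a121116])], [(0xe12, [0, 0x813080d141615])]]
def NC : NclD := ⟨3, 7, [(0, [0x91a0b, 0x10031105091018]), (2, [0xe0b, 0x10a190d080d0a10161518])]⟩

/-- all the equations of the certificate -/
structure Eqs {G : Type*} [Group G] (g : ℕ → G) : Prop where
  l5 : AllHold g L5.eqns
  x5 : AllHold g X5.eqns
  l4 : AllHold g L4.eqns
  x4 : AllHold g X4.eqns
  l3 : AllHold g L3.eqns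
  x3 : AllHold g X3.eqns
  l2 : AllHold g L2.eqns
  x2 : AllHold g X2.eqns
  l1 : AllHold g L1.eqns
  x1 : AllHold g X1.eqns
  l0 : AllHold g L0.eqns
  x0 : AllHold g X0.eqns
  xd : AllHold g XD.eqns
  mx : AllHold g (L0.maxEqns MX)
  nc : AllHold g NC.eqns

end CfsgLib.LieModel.Sp62.P
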